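import Groth.Agent.AlgSpLib.DiagCrit
import Groth.Agent.AlgSpLib.Subspace
import Groth.Agent.AlgSpLib.LocPMore
import Mathlib.AlgebraicGeometry.Morphisms.FormallyUnramified

universe u

open CategoryTheory CategoryTheory.Limits AlgebraicGeometry Opposite

set_option backward.isDefEq.respectTransparency false

namespace Groth.Agent.UnivInjMor

open _root_.AlgSp Groth.Agent.AlgSpLib

variable {S : Scheme.{u}}

/-- unramified morphisms have open immersions as diagonals -/
theorem repWith_diagonal_of_unramified {X Y : Sp S} (hX : IsAlgSpace X) (hY : IsAlgSpace Y) (f : X ⟶ Y)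
    (hf : LocP (@LocallyOfFiniteType ⊓ @FormallyUnramified) f) :
    RepWith @IsOpenImmersion (pullback.diagonal f) := by
  have sq := IsPullback.of_hasPullback f f
  have hP : IsAlgSpace (pullback f f) := isAlgSpace_of_isPullback_space hY hX hX sq
  have : IsSplitMono (pullback.diagonal f) := ⟨⟨pullback.fst f f, pullback.diagonal_fst f⟩⟩
  refine repWith_isOpenImmersion_of_mono hX hP _ ((isEtaleMor_iff_locP hP).2 ?_)
  refine locP_cancel etST_etale (Q := @LocallyOfFiniteType ⊓ @FormallyUnramified) (g := pullback.fst f f)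
    (fun _ _ _ r s hs hrs => ?_) hX ?_ (locP_baseChange etST_unramified hX hY hP hX sq.flip hf)
  · have : LocallyOfFiniteType s := hs.1
    have : FormallyUnramified s := hs.2
    have : Etale (r ≫ s) := hrs
    exact Etale.of_comp r s
  · rw [pullback.diagonal_fst]
    exact (isEtaleMor_iff_locP hX).1 fun U φ hφ => by rw [Category.comp_id]; exact hφ

/-- morphisms locally of finite type whose diagonal is an open immersion are unramified -/
theorem unramified_of_diagonal {X Y : Sp S} (hX : IsAlgSpace X) (hY : IsAlgSpace Y) (f : X ⟶ Y)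
    (hft : LocP @LocallyOfFiniteType f) (hd : RepWith @IsOpenImmersion (pullback.diagonal f)) :
    LocP (@LocallyOfFiniteType ⊓ @FormallyUnramified) f := by
  intro U V a b h ha hb comm
  refine ⟨hft a b h ha hb comm, ?_⟩
  have haU : RepWith @IsOpenImmersion (pullback.diagonal a) :=
    repWith_diagonal_of_unramified (IsAlgSpace.yon_obj U) hX a fun U' V' a' b' k ha' hb' c => by
      have : Etale k.left := (isEtaleMor_iff_locP hX).1 (isEtaleMor_of_repWith' ha) a' b' k ha' hb' c
      exact ⟨inferInstance, inferInstance⟩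
  have haf : RepWith @IsOpenImmersion (pullback.diagonal (a ≫ f)) := by
    rw [pullback.diagonal_comp]
    exact repWith_comp haU ((repWith_iso_comp_iff _ _).2 (repWith_baseChange (IsPullback.of_hasPullback _ _) hd))
  obtain ⟨c, hc⟩ : ∃ c : pullback ((yon S).map h) ((yon S).map h) ⟶ pullback (a ≫ f) (a ≫ f),
      c = pullback.map _ _ _ _ (𝟙 _) (𝟙 _) b (by simp [comm]) (by simp [comm]) := ⟨_, rfl⟩
  have sqd : IsPullback (𝟙 _) (pullback.diagonal ((yon S).map h)) (pullback.diagonal (a ≫ f)) c := by
    refine isPullback_of_points ?_ fun T x y e => ?_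
    · apply pullback.hom_ext <;> simp [hc]
    · have e1 := congrArg (fun m => m ≫ pullback.fst (a ≫ f) (a ≫ f)) e
      have e2 := congrArg (fun m => m ≫ pullback.snd (a ≫ f) (a ≫ f)) e
      simp [hc] at e1 e2
      refine ⟨x, ⟨Category.comp_id _, ?_⟩, fun m hm => by simpa using hm.1⟩
      apply pullback.hom_ext <;> simp [← e1, ← e2]
  have hh : IsOpenImmersion (pullback.diagonal h.left) :=
    (repWith_diagonal_yon_iff @IsOpenImmersion h).1 (repWith_baseChange sqd haf)
  exact (inferInstance : FormallyUnramified h.left)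

end Groth.Agent.UnivInjMor
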