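import Groth.Agent.UnivInjMor.Basic
import Groth.Agent.UnivInjMor.Unram
import Groth.Agent.InfLift.Charts
import Groth.Agent.LqfRep.Main
import Groth.Agent.AlgSpLib.ProperCrit
import Mathlib.AlgebraicGeometry.Morphisms.QuasiFinite
import Mathlib.RingTheory.Unramified.Finite

/-!
# Monomorphisms, unramified and universally injective morphisms of algebraic spaces
-/

universe u

open CategoryTheory CategoryTheory.Limits AlgebraicGeometry Opposite TensorProduct

set_option backward.isDefEq.respectTransparency false

namespace Groth.Agent.UnivInjMor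

open _root_.AlgSp Groth.Agent.AlgSpLib

theorem quasiFinite_of_unramified {R S : Type u} [CommRing R] [CommRing S] [Algebra R S]
    [Algebra.FormallyUnramified R S] [Algebra.FiniteType R S] : Algebra.QuasiFinite R S := by
  refine ⟨fun P _ => ?_⟩
  have : Algebra.FormallyUnramified P.ResidueField (P.Fiber S) := Algebra.FormallyUnramified.base_change ..
  have : Algebra.EssFiniteType P.ResidueField (P.Fiber S) := inferInstance
  exact Algebra.FormallyUnramified.finite_of_free P.ResidueField (P.Fiber S)

theorem lqf_of_unramified {X Y : Scheme.{u}} (f : X ⟶ Y) [LocallyOfFiniteType f] [FormallyUnramified f] :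
    LocallyQuasiFinite f := by
  refine ⟨fun {U} hU {V} hV e => ?_⟩
  have h1 := HasRingHomProperty.appLE @FormallyUnramified f inferInstance ⟨U, hU⟩ ⟨V, hV⟩ e
  have h2 := HasRingHomProperty.appLE @LocallyOfFiniteType f inferInstance ⟨U, hU⟩ ⟨V, hV⟩ e
  algebraize [(f.appLE U V e).hom]
  exact quasiFinite_of_unramified

variable {S : Scheme.{u}}

theorem isUnivInjectiveMor_of_mono {X Y : Sp S} (hX : IsAlgSpace X) (f : X ⟶ Y) [Mono f] :
    IsUnivInjectiveMor f :=
  (injective_iff_isUnivInjectiveMor hX f).1 fun _ _ _ _ _ e => (cancel_mono f).1 e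

theorem isFormallyUnramifiedMor_of_mono {X Y : Sp S} (f : X ⟶ Y) [Mono f] : IsFormallyUnramifiedMor f := by
  intro sq a b _ ha _ hb
  exact (cancel_mono f).1 (ha.trans hb.symm)

theorem unramified_of_mono {X Y : Sp S} (hX : IsAlgSpace X) (hY : IsAlgSpace Y) (f : X ⟶ Y) [Mono f]
    (hl : LocP @LocallyOfFiniteType f) : LocP (@LocallyOfFiniteType ⊓ @FormallyUnramified) f :=
  fun U V a b h ha hb comm =>
    ⟨hl a b h ha hb comm, (InfLift.unram_iff hX hY).1 (isFormallyUnramifiedMor_of_mono f) a b h ha hb comm⟩

theorem mono_of_unramified_univInj {X Y : Sp S} (hX : IsAlgSpace X) (hY : IsAlgSpace Y) (f : X ⟶ Y)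
    (hu : LocP (@LocallyOfFiniteType ⊓ @FormallyUnramified) f) (hi : IsUnivInjectiveMor f) : Mono f := by
  have hP : IsAlgSpace (pullback f f) := isAlgSpace_of_isPullback_space hY hX hX (IsPullback.of_hasPullback f f)
  have ho := repWith_diagonal_of_unramified hX hY f hu
  have hs := (isUnivInjectiveMor_iff_diagonal hX f).1 hi
  have : IsSplitMono (pullback.diagonal f) := ⟨⟨pullback.fst f f, pullback.diagonal_fst f⟩⟩
  obtain ⟨g, hg⟩ := (exists_factor_iff hX hP (pullback.diagonal f) ho (𝟙 _)).2 fun x _ => hs x
  have : IsIso (pullback.diagonal f) :=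
    ⟨g, (cancel_mono (pullback.diagonal f)).1 (by rw [Category.assoc, hg, Category.comp_id, Category.id_comp]), hg⟩
  exact (pullback.isIso_diagonal_iff f).1 this

theorem isSeparatedMor_of_mono {X Y : Sp S} (f : X ⟶ Y) [Mono f] : IsSeparatedMor f := by
  have : IsIso (pullback.diagonal f) := (pullback.isIso_diagonal_iff f).2 inferInstance
  exact repWith_of_isIso _

theorem lqf_of_mono {X Y : Sp S} (hX : IsAlgSpace X) (hY : IsAlgSpace Y) (f : X ⟶ Y) [Mono f]
    (hl : LocP @LocallyOfFiniteType f) : LocP (@LocallyQuasiFinite ⊓ @LocallyOfFiniteType) f :=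
  fun U V a b h ha hb comm => by
    obtain ⟨h1, h2⟩ := unramified_of_mono hX hY f hl a b h ha hb comm
    have : LocallyOfFiniteType h.left := h1
    have : FormallyUnramified h.left := h2
    exact ⟨lqf_of_unramified h.left, h1⟩

theorem representable_of_mono {X Y : Sp S} (hX : IsAlgSpace X) (hY : IsAlgSpace Y) (f : X ⟶ Y) [Mono f]
    (hl : LocP @LocallyOfFiniteType f) : Representable f :=
  LqfRep.representable_of_lqf_separated hX hY f (lqf_of_mono hX hY f hl) (isSeparatedMor_of_mono f) etST_lqf

end Groth.Agent.UnivInjMor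

namespace Groth.Agent.UnivInjMor

open _root_.AlgSp Groth.Agent.AlgSpLib

variable {S : Scheme.{u}}

theorem repWith_monomorphisms_of_mono {X Y : Sp S} (f : X ⟶ Y) [Mono f] (hf : Representable f) :
    RepWith (MorphismProperty.monomorphisms Scheme.{u}) f := by
  refine repWith_of_exists fun T ξ => ?_
  obtain ⟨W, fst, w, sq⟩ := exists_isPullback_of_representable hf ξ
  refine ⟨W, fst, w, sq, ?_⟩
  constructor
  intro Z a b e
  let Z' : Over S := Over.mk (a ≫ W.hom)
  let a' : Z' ⟶ W := Over.homMk a rfl
  let b' : Z' ⟶ W := Over.homMk b (by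
    show b ≫ W.hom = a ≫ W.hom
    rw [← Over.w w, reassoc_of% e])
  have e' : a' ≫ w = b' ≫ w := Over.OverMorphism.ext e
  have : (yon S).map a' = (yon S).map b' := by
    refine sq.hom_ext ((cancel_mono f).1 ?_) ((yon S).congr_map e' |> fun t => by simpa using t)
    rw [Category.assoc, Category.assoc, sq.w, ← Functor.map_comp_assoc, e', Functor.map_comp_assoc]
  exact congrArg (fun m => m.left) ((yon S).map_injective this)

theorem closedImmersion_props {X Y : Sp S} (hX : IsAlgSpace X) (hY : IsAlgSpace Y) (f : X ⟶ Y)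
    (h : RepWith @IsClosedImmersion f) :
    Mono f ∧ LocP @LocallyOfFiniteType f ∧ IsUnivClosedMor f := by
  refine ⟨mono_of_repWith_immersion (repWith_mono (fun _ _ g hg => ?_) h), ?_, ?_⟩
  · have : IsClosedImmersion g := hg
    exact (inferInstance : IsImmersion g)
  · exact (locP_iff_repWith etST_lft hY h.1).2 (repWith_mono (fun _ _ g hg => by
      have : IsClosedImmersion g := hg
      exact (inferInstance : LocallyOfFiniteType g)) h)
  · exact (isUnivClosedMor_iff_repWith h.1).2 (repWith_mono (fun _ _ g hg => by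
      have : IsClosedImmersion g := hg
      exact (inferInstance : UniversallyClosed g)) h)

theorem closedImmersion_of_mono {X Y : Sp S} (hX : IsAlgSpace X) (hY : IsAlgSpace Y) (f : X ⟶ Y) [Mono f]
    (hl : LocP @LocallyOfFiniteType f) (hc : IsUnivClosedMor f) : RepWith @IsClosedImmersion f :=
  repWith_isClosedImmersion_of_mono_univClosed hY
    (repWith_monomorphisms_of_mono f (representable_of_mono hX hY f hl)) hl hc

end Groth.Agent.UnivInjMor
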