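import Groth.Agent.UnivInjMor.Basic
import Groth.Agent.AlgSpLib.Subspace
import Groth.Agent.AlgSpLib.LocPMore

universe u

open CategoryTheory CategoryTheory.Limits AlgebraicGeometry Opposite

set_option backward.isDefEq.respectTransparency false

namespace Groth.Agent.UnivInjMor

open _root_.AlgSp Groth.Agent.AlgSpLib

variable {S : Scheme.{u}}

/-- etale and universally injective morphisms are open immersions -/
theorem repWith_isOpenImmersion_of_etale_univInj {X Y : Sp S} (hX : IsAlgSpace X) (hY : IsAlgSpace Y) (f : X ⟶ Y)
    (hf : IsEtaleMor f) (hi : IsUnivInjectiveMor f) : RepWith @IsOpenImmersion f := by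
  have sq := IsPullback.of_hasPullback f f
  have hP : IsAlgSpace (pullback f f) := isAlgSpace_of_isPullback_space hY hX hX sq
  have hfst : IsEtaleMor (pullback.fst f f) :=
    (isEtaleMor_iff_locP hX).2 (locP_baseChange etST_etale hX hY hP hX sq.flip ((isEtaleMor_iff_locP hY).1 hf))
  have hd : IsEtaleMor (pullback.diagonal f) := by
    refine isEtaleMor_of_comp hP hX (g := pullback.fst f f) ?_ hfst
    rw [pullback.diagonal_fst]
    exact fun U φ hφ => by rw [Category.comp_id]; exact hφ
  have : IsSplitMono (pullback.diagonal f) := ⟨⟨pullback.fst f f, pullback.diagonal_fst f⟩⟩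
  have ho := repWith_isOpenImmersion_of_mono hX hP (pullback.diagonal f) hd
  have hs := (isUnivInjectiveMor_iff_diagonal hX f).1 hi
  obtain ⟨g, hg⟩ := (exists_factor_iff hX hP (pullback.diagonal f) ho (𝟙 _)).2 fun x _ => hs x
  have : IsIso (pullback.diagonal f) :=
    ⟨g, (cancel_mono (pullback.diagonal f)).1 (by rw [Category.assoc, hg, Category.comp_id, Category.id_comp]), hg⟩
  have : Mono f := (pullback.isIso_diagonal_iff f).1 this
  exact repWith_isOpenImmersion_of_mono hX hY f hf

end Groth.Agent.UnivInjMor
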