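import Groth.Agent.FlatMonoRep.Local
import Mathlib.AlgebraicGeometry.Morphisms.UniversallyInjective
import Mathlib.AlgebraicGeometry.Sites.Fpqc

/-!
# Universally injective morphisms of algebraic spaces
-/

universe u

open CategoryTheory CategoryTheory.Limits AlgebraicGeometry Opposite

set_option backward.isDefEq.respectTransparency false

namespace Groth.Agent.UnivInjMor

open _root_.AlgSp Groth.Agent.AlgSpLib

variable {S : Scheme.{u}}

/-- two field valued points of a space which agree after a field extension are equal -/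
theorem hom_ext_of_point {X : Sp S} (hX : IsAlgSpace X) {K : Type u} [Field K]
    {str : Spec (CommRingCat.of K) ⟶ S} (a b : (yon S).obj (Over.mk str) ⟶ X) {L : Over S} (α : L ⟶ Over.mk str)
    (k : ↥L.left) (e : (yon S).map α ≫ a = (yon S).map α ≫ b) : a = b := by
  obtain ⟨W, p, q, sq⟩ := exists_pullback hX.diag a b
  obtain ⟨ψ, hψ⟩ := Spec.map_surjective (L.left.fromSpecResidueField k ≫ α.left)
  let _ : Algebra K (L.left.residueField k) := ψ.hom.toAlgebra
  let L' : Over S := Over.mk (Spec.map ψ ≫ str)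
  let i : L' ⟶ L := Over.homMk (L.left.fromSpecResidueField k) (by
    show _ = Spec.map ψ ≫ str
    rw [hψ, Category.assoc]
    exact congrArg _ (Over.w α).symm)
  let c : L' ⟶ Over.mk str := Over.homMk (Spec.map ψ) rfl
  have hc : i ≫ α = c := Over.OverMorphism.ext hψ.symm
  have : Flat c.left := HasRingHomProperty.Spec_iff.2
    (show (algebraMap K (L.left.residueField k)).Flat from RingHom.flat_algebraMap_iff.2 inferInstance)
  have : Surjective c.left := ⟨fun x => ⟨⟨⊥, Ideal.isPrime_bot⟩, Subsingleton.elim (α := PrimeSpectrum K) _ _⟩⟩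
  have : QuasiCompact c.left := by
    show QuasiCompact (Spec.map ψ)
    infer_instance
  obtain ⟨l, hl⟩ := exists_map_eq (sq.lift ((yon S).map c) ((yon S).map c) (by
    rw [← hc, Functor.map_comp, Category.assoc, Category.assoc, e]))
  have hl₁ : l ≫ p = c := (yon S).map_injective (by rw [Functor.map_comp, hl, sq.lift_fst])
  have hl₂ : l ≫ q = c := (yon S).map_injective (by rw [Functor.map_comp, hl, sq.lift_snd])
  let m₀ : Spec (CommRingCat.of K) ⟶ W.left := EffectiveEpi.desc c.left l.left fun {Z} g₁ g₂ h => by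
    let Z' : Over S := Over.mk (g₁ ≫ L'.hom)
    let g₁' : Z' ⟶ L' := Over.homMk g₁ rfl
    let g₂' : Z' ⟶ L' := Over.homMk g₂ (by
      show g₂ ≫ L'.hom = g₁ ≫ L'.hom
      rw [← Over.w c, reassoc_of% h])
    have hg : g₁' ≫ c = g₂' ≫ c := Over.OverMorphism.ext h
    have : g₁' ≫ l = g₂' ≫ l := (yon S).map_injective (sq.hom_ext
      (by rw [← Functor.map_comp, ← Functor.map_comp, Category.assoc, Category.assoc, hl₁, hg])
      (by rw [← Functor.map_comp, ← Functor.map_comp, Category.assoc, Category.assoc, hl₂, hg]))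
    exact congrArg (fun m => m.left) this
  have hm₀ : c.left ≫ m₀ = l.left := EffectiveEpi.fac _ _ _
  have : Epi c.left := Flat.epi_of_flat_of_surjective _
  have hw : m₀ ≫ W.hom = str := by
    rw [← cancel_epi c.left, reassoc_of% hm₀, Over.w l]
    rfl
  let m : Over.mk str ⟶ W := Over.homMk m₀ hw
  have hmp : m ≫ p = 𝟙 _ := Over.OverMorphism.ext (by
    rw [← cancel_epi c.left]
    show c.left ≫ m₀ ≫ p.left = c.left ≫ 𝟙 _
    rw [reassoc_of% hm₀, ← Over.comp_left, hl₁]
    exact (Category.comp_id _).symm)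
  have hmq : m ≫ q = 𝟙 _ := Over.OverMorphism.ext (by
    rw [← cancel_epi c.left]
    show c.left ≫ m₀ ≫ q.left = c.left ≫ 𝟙 _
    rw [reassoc_of% hm₀, ← Over.comp_left, hl₂]
    exact (Category.comp_id _).symm)
  have := congrArg (fun z => (yon S).map m ≫ z) sq.w
  simpa [← Functor.map_comp_assoc, hmp, hmq] using this

variable {X Y : Sp S}

theorem injective_of_isUnivInjectiveMor (hX : IsAlgSpace X) {f : X ⟶ Y} (h : IsUnivInjectiveMor f) {K : Type u}
    [Field K] (str : Spec (CommRingCat.of K) ⟶ S) :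
    Function.Injective fun a : (yon S).obj (Over.mk str) ⟶ X => a ≫ f := fun a b e => by
  have sq := IsPullback.of_hasPullback f (a ≫ f)
  let a' := pullback.lift a (𝟙 _) (Category.id_comp (a ≫ f)).symm
  let b' := pullback.lift b (𝟙 _) (show b ≫ f = 𝟙 _ ≫ a ≫ f by rw [Category.id_comp]; exact e.symm)
  let z : ↥(Over.mk str).left := IsLocalRing.closedPoint K
  have h' : Points.ofPt a' z = Points.ofPt b' z :=
    h (IsAlgSpace.yon_obj _) (a ≫ f) _ _ sq (by
      rw [Points.map_ofPt, Points.map_ofPt, pullback.lift_snd, pullback.lift_snd])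
  obtain ⟨L, α, β, k, hab, -, -⟩ := exists_of_ofPt_eq h'
  have hαβ : α = β := (yon S).map_injective (by
    simpa [a', b'] using congrArg (fun m => m ≫ pullback.snd f (a ≫ f)) hab)
  refine hom_ext_of_point hX a b α k ?_
  simpa [a', b', hαβ] using congrArg (fun m => m ≫ pullback.fst f (a ≫ f)) hab

theorem isSurjectiveMor_diagonal_of_injective {f : X ⟶ Y}
    (h : ∀ (K : Type u) [Field K] (str : Spec (CommRingCat.of K) ⟶ S),
      Function.Injective fun a : (yon S).obj (Over.mk str) ⟶ X => a ≫ f) :
    IsSurjectiveMor (pullback.diagonal f) := fun x => by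
  obtain ⟨p, rfl⟩ := Points.mk_surjective x
  let c := fieldHom p
  have e : c ≫ pullback.fst f f = c ≫ pullback.snd f f :=
    h p.K p.str (by simp only [Category.assoc, pullback.condition])
  refine ⟨Points.ofPt (c ≫ pullback.fst f f) (IsLocalRing.closedPoint p.K), ?_⟩
  rw [mk_eq_ofPt, Points.map_ofPt]
  congr 1
  apply pullback.hom_ext
  · simp [c]
  · simpa [c] using e

theorem isUnivInjectiveMor_of_diagonal {f : X ⟶ Y} (h : IsSurjectiveMor (pullback.diagonal f)) :
    IsUnivInjectiveMor f := by
  intro Z Z' hZ g fst snd sq x₁ x₂ e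
  obtain ⟨T₁, a₁, t₁, rfl⟩ := exists_ofPt x₁
  obtain ⟨T₂, a₂, t₂, rfl⟩ := exists_ofPt x₂
  rw [Points.map_ofPt, Points.map_ofPt] at e
  obtain ⟨L, α, β, k, hab, rfl, rfl⟩ := exists_of_ofPt_eq e
  let a := (yon S).map α ≫ a₁
  let b := (yon S).map β ≫ a₂
  have hs : a ≫ snd = b ≫ snd := by simp only [a, b, Category.assoc, hab]
  have hf : (a ≫ fst) ≫ f = (b ≫ fst) ≫ f := by
    simp only [Category.assoc, sq.w]
    rw [reassoc_of% hs]
  obtain ⟨x, hx⟩ := h (Points.ofPt (pullback.lift _ _ hf) k)
  obtain ⟨T, c, t, rfl⟩ := exists_ofPt x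
  rw [Points.map_ofPt] at hx
  obtain ⟨L', γ, δ, k', hcd, -, hk'⟩ := exists_of_ofPt_eq hx
  have h1 := congrArg (fun m => m ≫ pullback.fst f f) hcd
  have h2 := congrArg (fun m => m ≫ pullback.snd f f) hcd
  simp only [Category.assoc, pullback.diagonal_fst, pullback.diagonal_snd, pullback.lift_fst, pullback.lift_snd,
    Category.comp_id] at h1 h2
  have hab' : (yon S).map δ ≫ a = (yon S).map δ ≫ b := sq.hom_ext
    (by simp only [Category.assoc]; exact h1.symm.trans h2) (by simp only [Category.assoc, hs])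
  rw [← ofPt_comp, ← ofPt_comp, ← hk']
  exact (ofPt_comp δ a k').symm.trans ((congrArg (Points.ofPt · k') hab').trans (ofPt_comp δ b k'))

theorem injective_iff_isUnivInjectiveMor (hX : IsAlgSpace X) (f : X ⟶ Y) :
    (∀ (K : Type u) [Field K] (str : Spec (CommRingCat.of K) ⟶ S),
      Function.Injective fun a : (yon S).obj (Over.mk str) ⟶ X => a ≫ f) ↔ IsUnivInjectiveMor f :=
  ⟨fun h => isUnivInjectiveMor_of_diagonal (isSurjectiveMor_diagonal_of_injective h),
    fun h _ _ str => injective_of_isUnivInjectiveMor hX h str⟩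

theorem isUnivInjectiveMor_iff_diagonal (hX : IsAlgSpace X) (f : X ⟶ Y) :
    IsUnivInjectiveMor f ↔ IsSurjectiveMor (pullback.diagonal f) :=
  ⟨fun h => isSurjectiveMor_diagonal_of_injective fun _ _ str => injective_of_isUnivInjectiveMor hX h str,
    isUnivInjectiveMor_of_diagonal⟩

theorem repWith_universallyInjective_iff {f : X ⟶ Y} (hf : Representable f) :
    RepWith @UniversallyInjective f ↔ ∀ (K : Type u) [Field K] (str : Spec (CommRingCat.of K) ⟶ S),
      Function.Injective fun a : (yon S).obj (Over.mk str) ⟶ X => a ≫ f := by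
  constructor
  · intro h K _ str a b e
    obtain ⟨V, fst, snd, sq, hs⟩ := exists_repWith h (a ≫ f)
    obtain ⟨a', ha'⟩ := exists_map_eq (sq.lift a (𝟙 _) (by simp))
    obtain ⟨b', hb'⟩ := exists_map_eq (sq.lift b (𝟙 _) (by rw [Category.id_comp]; exact e.symm))
    have hea : a' ≫ snd = 𝟙 _ := (yon S).map_injective (by rw [Functor.map_comp, ha', sq.lift_snd]; simp)
    have heb : b' ≫ snd = 𝟙 _ := (yon S).map_injective (by rw [Functor.map_comp, hb', sq.lift_snd]; simp)
    have hinj : ∀ (K : Type u) [Field K], Function.Injective fun g : Spec (.of K) ⟶ V.left => g ≫ snd.left :=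
      ((tfae_universallyInjective snd.left).out 0 1).1 hs
    have e2 : a'.left = b'.left := hinj K
      (show a'.left ≫ snd.left = b'.left ≫ snd.left by rw [← Over.comp_left, hea, ← Over.comp_left, heb])
    have e3 : a' = b' := Over.OverMorphism.ext e2
    rw [← sq.lift_fst a (𝟙 _) (by simp), ← ha', e3, hb', sq.lift_fst]
  · intro h
    refine repWith_of_exists fun U ξ => ?_
    obtain ⟨V, snd, fst, sq⟩ := exists_isPullback_of_representable hf ξ
    refine ⟨V, snd, fst, sq, ?_⟩
    suffices hinj : ∀ (K : Type u) [Field K], Function.Injective fun g : Spec (.of K) ⟶ V.left => g ≫ fst.left from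
      ((tfae_universallyInjective fst.left).out 0 1).2 hinj
    intro K _ g₁ g₂ e
    let T : Over S := Over.mk (g₁ ≫ V.hom)
    let a : T ⟶ V := Over.homMk g₁ rfl
    let b : T ⟶ V := Over.homMk g₂ (by
      show g₂ ≫ V.hom = g₁ ≫ V.hom
      rw [← Over.w fst]
      exact (congrArg (fun m => m ≫ U.hom) e).symm)
    have e' : a ≫ fst = b ≫ fst := Over.OverMorphism.ext e
    have : a = b := (yon S).map_injective (sq.hom_ext (h K _ (by
      simp only [Category.assoc, sq.w]
      rw [← Functor.map_comp_assoc, ← Functor.map_comp_assoc, e']))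
      (by rw [← Functor.map_comp, ← Functor.map_comp, e']))
    exact congrArg (fun m => m.left) this

end Groth.Agent.UnivInjMor
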